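import Groth.Agent.QRegLib.SymGr

/-!
Generators of an ideal generated by a quasi-regular sequence.
-/

set_option autoImplicit false
universe u
open MvPolynomial

namespace Groth.Agent.QReg16Lib

variable {A : Type u} [CommRing A] {c : ℕ}

theorem mem_of_sum_mem_sq {f : Fin c → A} (hq : CAlgX.IsQuasiRegular f) (r : Fin c → A)
    (h : ∑ j, r j * f j ∈ Ideal.span (Set.range f) ^ 2) (j : Fin c) : r j ∈ Ideal.span (Set.range f) := by
  classical
  have := hq 1 (∑ j, C (r j) * X j) (IsHomogeneous.sum _ _ _ fun j _ => isHomogeneous_C_mul_X _ _)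
    (by simpa [map_sum] using h) (Finsupp.single j 1)
  simpa [coeff_sum, coeff_C_mul, coeff_X', Finsupp.single_eq_single_iff] using this

theorem linearIndependent_of_isQuasiRegular (f : Fin c → A) {J : Ideal A} (hJ : Ideal.span (Set.range f) = J)
    (hq : CAlgX.IsQuasiRegular f) :
    LinearIndependent (A ⧸ J) fun j => J.toCotangent ⟨f j, hJ ▸ Ideal.subset_span ⟨j, rfl⟩⟩ := by
  classical
  rw [Fintype.linearIndependent_iff]
  intro r hr j
  choose s hs using fun j => Ideal.Quotient.mk_surjective (r j)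
  have h : J.toCotangent (∑ j, s j • (⟨f j, hJ ▸ Ideal.subset_span ⟨j, rfl⟩⟩ : J)) = 0 := by
    rw [map_sum, ← hr]
    refine Finset.sum_congr rfl fun j _ => ?_
    rw [map_smul, ← hs j, ← Ideal.Quotient.algebraMap_eq, algebraMap_smul]
  rw [Ideal.toCotangent_eq_zero, Submodule.coe_sum] at h
  rw [← hs j, Ideal.Quotient.eq_zero_iff_mem, ← hJ]
  exact mem_of_sum_mem_sq hq s (by rw [hJ]; exact h) j

theorem span_quotient_toCotangent_eq_top (f : Fin c → A) {J : Ideal A} (hJ : Ideal.span (Set.range f) = J) :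
    Submodule.span (A ⧸ J) (Set.range fun j => J.toCotangent ⟨f j, hJ ▸ Ideal.subset_span ⟨j, rfl⟩⟩) = ⊤ := by
  rw [eq_top_iff]
  intro x _
  exact Submodule.span_subset_span A (A ⧸ J) _ (QRegLib.span_toCotangent_eq_top f J hJ ▸ Submodule.mem_top)

theorem isQuasiRegular_of_span_eq (f f' : Fin c → A) (hq : CAlgX.IsQuasiRegular f)
    (h : Ideal.span (Set.range f') = Ideal.span (Set.range f)) : CAlgX.IsQuasiRegular f' := by
  classical
  let J := Ideal.span (Set.range f)
  refine QRegLib.isQuasiRegular_of_symGr f' J h (QRegLib.symGrBijective_of_isQuasiRegular f J rfl hq) ?_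
  let b := Module.Basis.mk (linearIndependent_of_isQuasiRegular f (J := J) rfl hq)
    (span_quotient_toCotangent_eq_top f (J := J) rfl).ge
  haveI : Module.Finite (A ⧸ J) J.Cotangent := Module.Finite.of_basis b
  let v : Fin c → J.Cotangent := fun j => J.toCotangent ⟨f' j, h.le (Ideal.subset_span ⟨j, rfl⟩)⟩
  let L : J.Cotangent →ₗ[A ⧸ J] J.Cotangent := b.constr (A ⧸ J) v
  have hL : Function.Surjective L := by
    rw [← LinearMap.range_eq_top, b.constr_range]
    exact span_quotient_toCotangent_eq_top f' (J := J) h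
  have hi : Function.Injective L := OrzechProperty.injective_of_surjective_endomorphism L hL
  have hv : v = L ∘ b := funext fun j => (b.constr_basis (A ⧸ J) v j).symm
  show LinearIndependent (A ⧸ J) v
  rw [hv]
  exact b.linearIndependent.map' L (LinearMap.ker_eq_bot.2 hi)

end Groth.Agent.QReg16Lib
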