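import Groth.Agent.QReg16Lib.Proj

/-!
Quasi-regular generators near a prime, from a projective conormal module and a bijective
`Symⁿ(J/J²) → Jⁿ/Jⁿ⁺¹`.
-/

set_option autoImplicit false
set_option linter.style.haveILetI false
universe u
open MvPolynomial Groth.Agent.SymGrLib

namespace Groth.Agent.QReg16Lib

variable {R : Type u} [CommRing R] {J : Ideal R}

theorem eval_monomial_sum_single {ι σ S : Type*} [Fintype ι] [CommRing S] (v : σ → S) (a : S) (h : ι → σ) :
    eval v (monomial (∑ i, Finsupp.single (h i) 1) a) = a * ∏ i, v (h i) := by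
  rw [eval_monomial, ← Finsupp.prod_finsetSum_index (fun _ => pow_zero _) (fun _ _ _ => pow_add _ _ _)]
  simp

/-- With coordinates `τ` for `x` on `(R/J)_g ⊗ J/J²`, `SymGrBijective` gives quasi-regularity of `x` in `R_g`. -/
theorem isQuasiRegular_of_coord (g : R) {c : ℕ} (x : Fin c → J)
    (τ : J.Cotangent →ₗ[R ⧸ J] (Fin c → Localization.Away (Ideal.Quotient.mk J g)))
    (hτ : ∀ j, τ (J.toCotangent (x j)) = Pi.single j 1) (hS : PP16.SymGrBijective R J)
    (hspan : Ideal.span (Set.range fun j => algebraMap R (Localization.Away g) (x j)) =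
      J.map (algebraMap R (Localization.Away g))) :
    CAlgX.IsQuasiRegular fun j => algebraMap R (Localization.Away g) (x j) := by
  classical
  intro n P hP hv d
  rw [hspan] at hv ⊢
  rcases Nat.eq_zero_or_pos n with rfl | hn
  · rw [zero_add, pow_one] at hv
    have hPC : P = C (P.coeff 0) := totalDegree_eq_zero_iff_eq_C.1 (Nat.le_zero.1 hP.totalDegree_le)
    rw [hPC, eval_C] at hv
    rw [hPC, coeff_C]
    split_ifs
    · exact hv
    · exact zero_mem _
  let ι := ULift.{u} (Fin n)
  haveI : Nonempty ι := ⟨⟨⟨0, hn⟩⟩⟩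
  have hcard : Fintype.card ι = n := by simp [ι]
  obtain ⟨φ, hφ, hφb⟩ := hS ι
  obtain ⟨⟨_, k, rfl⟩, hk⟩ := IsLocalization.exist_integer_multiples (Submonoid.powers g) P.support P.coeff
  choose a ha using hk
  have hex : ∀ e ∈ P.support, ∃ h : ι → Fin c, ∑ i, Finsupp.single (h i) 1 = e := fun e he => by
    obtain ⟨h, hh⟩ := QRegLib.exists_fun_of_degree n e
      (by rw [Finsupp.degree_apply]; exact (hP.degree_eq_sum_deg_support he).symm)
    refine ⟨fun i => h i.down, ?_⟩
    rw [← hh]
    exact Equiv.sum_comp Equiv.ulift fun i => Finsupp.single (h i) 1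
  choose h hh using hex
  let fx : Fin c → R := fun j => (x j : R)
  let val : R := ∑ e ∈ P.support.attach, a e.1 e.2 * ∏ i, fx (h e.1 e.2 i)
  have hval : algebraMap R (Localization.Away g) val = algebraMap R (Localization.Away g) (g ^ k) *
      eval (fun j => algebraMap R (Localization.Away g) (x j)) P := by
    conv_rhs => rw [P.as_sum, map_sum, Finset.mul_sum, ← Finset.sum_attach]
    simp only [val, map_sum, map_mul, map_prod, fx]
    refine Finset.sum_congr rfl fun e _ => ?_
    rw [ha, Algebra.smul_def]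
    conv_rhs => rw [← hh e.1 e.2, eval_monomial_sum_single]
    rw [hh, mul_assoc]
  obtain ⟨m, hm⟩ : ∃ m, g ^ m * val ∈ J ^ (n + 1) := by
    refine exists_pow_mul_mem (L := Localization.Away g) ?_
    rw [hval, Ideal.map_pow]
    exact Ideal.mul_mem_left _ _ hv
  let z : {e // e ∈ P.support} → ↥(J ^ Fintype.card ι) := fun e => ⟨∏ i, fx (h e.1 e.2 i), by
    rw [← Finset.card_univ, ← Finset.prod_const]; exact Ideal.prod_mem_prod fun i _ => (x _).2⟩
  let s : SymmetricPower R ι J.Cotangent := ∑ e ∈ P.support.attach,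
    (g ^ m * a e.1 e.2) • SymmetricPower.tprod R fun i => J.toCotangent (x (h e.1 e.2 i))
  have hs : s = 0 := by
    refine hφb.1 (Eq.trans ?_ (map_zero φ).symm)
    have h1 : φ s = Submodule.Quotient.mk (∑ e ∈ P.support.attach, (g ^ m * a e.1 e.2) • z e) := by
      rw [map_sum, ← Submodule.mkQ_apply, map_sum (Submodule.mkQ _)]
      exact Finset.sum_congr rfl fun e _ => by
        rw [map_smul, map_smul]; exact congrArg _ (hφ fun i => x (h e.1 e.2 i))
    rw [h1, Submodule.Quotient.mk_eq_zero, Submodule.mem_comap, Submodule.subtype_apply, Submodule.coe_sum,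
      show J ^ (Fintype.card ι + 1) = J ^ (n + 1) from congrArg (fun q => J ^ (q + 1)) hcard]
    convert hm using 1
    rw [Finset.mul_sum]
    exact Finset.sum_congr rfl fun e _ => mul_assoc _ _ _
  let B := R ⧸ J
  let Ba := Localization.Away (Ideal.Quotient.mk J g)
  let coordX : J.Cotangent →ₗ[B] MvPolynomial (Fin c) Ba :=
    ∑ j, ((LinearMap.toSpanSingleton Ba (MvPolynomial (Fin c) Ba) (X j)).restrictScalars B) ∘ₗ
      ((LinearMap.proj j : (Fin c → Ba) →ₗ[B] Ba) ∘ₗ τ)
  have hcX : ∀ j, coordX (J.toCotangent (x j)) = X j := fun j => by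
    simp [coordX, hτ, Pi.single_apply]
  let Φ : SymmetricAlgebra B J.Cotangent →ₐ[B] MvPolynomial (Fin c) Ba := SymmetricAlgebra.lift coordX
  have hmap : (∑ e ∈ P.support.attach, monomial e.1 (algebraMap B Ba (Ideal.Quotient.mk J (g ^ m * a e.1 e.2)))) =
      Φ (symToAlg R (C := B) ι s) := by
    rw [map_sum, map_sum]
    refine Finset.sum_congr rfl fun e _ => ?_
    rw [map_smul, symToAlg_tprod, ← algebraMap_smul B (g ^ m * a e.1 e.2), map_smul, map_prod,
      Finset.prod_congr rfl fun i _ => (SymmetricAlgebra.lift_ι_apply coordX _).trans (hcX (h e.1 e.2 i))]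
    have hmon : ∀ b : Ba, monomial e.1 b = C b * ∏ i, (X (h e.1 e.2 i)) := fun b => by
      conv_lhs => rw [← hh e.1 e.2]
      rw [MvPolynomial.monomial_sum_index]
      rfl
    rw [hmon, Algebra.smul_def, Ideal.Quotient.algebraMap_eq]
    rfl
  rw [hs, map_zero, map_zero] at hmap
  by_cases hd : d ∈ P.support
  · have h0 := congrArg (coeff d) hmap
    rw [coeff_zero, coeff_sum, Finset.sum_eq_single ⟨d, hd⟩ (fun e _ hne => by
        rw [coeff_monomial, if_neg (fun he => hne (Subtype.ext he))]) (by simp)] at h0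
    rw [coeff_monomial, if_pos rfl] at h0
    have hu : IsUnit (algebraMap R (Localization.Away g) (g ^ m) * algebraMap R (Localization.Away g) (g ^ k)) := by
      rw [map_pow, map_pow]; exact ((isUnit_g (g := g)).pow m).mul ((isUnit_g (g := g)).pow k)
    rw [← Ideal.unit_mul_mem_iff_mem _ hu, mul_assoc, ← Algebra.smul_def (g ^ k), ← ha d hd, ← map_mul]
    exact mem_of_proj_eq_zero g ((proj_algebraMap (J := J) g _).trans h0)
  · rw [notMem_support_iff.1 hd]
    exact zero_mem _

theorem exists_quasiRegular_generators (hfg : J.FG) [Module.Projective (R ⧸ J) J.Cotangent]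
    (hS : PP16.SymGrBijective R J) (P : Ideal R) [P.IsPrime] (hJP : J ≤ P) :
    ∃ g : R, g ∉ P ∧ ∃ (c : ℕ) (f : Fin c → Localization.Away g),
      CAlgX.IsQuasiRegular f ∧ Ideal.span (Set.range f) = J.map (algebraMap R (Localization.Away g)) := by
  classical
  let B := R ⧸ J
  haveI : Module.Finite R J := Module.Finite.of_fg hfg
  haveI : Module.Finite R J.Cotangent := Module.Finite.of_surjective _ J.toCotangent_surjective
  haveI : Module.Finite B J.Cotangent := Module.Finite.of_restrictScalars_finite R B _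
  haveI : Module.FinitePresentation B J.Cotangent := Module.finitePresentation_of_projective B _
  let p : Ideal B := P.map (Ideal.Quotient.mk J)
  haveI : p.IsPrime := Ideal.map_isPrime_of_surjective Ideal.Quotient.mk_surjective (by rwa [Ideal.mk_ker])
  have hcomap : ∀ r : R, Ideal.Quotient.mk J r ∈ p ↔ r ∈ P := fun r => by
    rw [← Ideal.mem_comap, Ideal.comap_map_of_surjective' _ Ideal.Quotient.mk_surjective, Ideal.mk_ker,
      sup_eq_left.2 hJP]
  haveI : Module.Free (Localization.AtPrime p) (LocalizedModule p.primeCompl J.Cotangent) :=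
    Module.free_of_flat_of_isLocalRing
  obtain ⟨a, ha, hfree, -⟩ := Module.FinitePresentation.exists_free_localizedModule_powers
    p.primeCompl (LocalizedModule.mkLinearMap p.primeCompl J.Cotangent) (Localization.AtPrime p)
  obtain ⟨g, rfl⟩ := Ideal.Quotient.mk_surjective a
  have hgP : g ∉ P := fun h => ha ((hcomap g).2 h)
  let ga := Ideal.Quotient.mk J g
  let Ba := Localization.Away ga
  let mkC := LocalizedModule.mkLinearMap (Submonoid.powers ga) J.Cotangent
  haveI : Module.Free Ba (LocalizedModule.Away ga J.Cotangent) := hfree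
  let b₀ := Module.Free.chooseBasis Ba (LocalizedModule.Away ga J.Cotangent)
  obtain ⟨c, b, -⟩ : ∃ (c : ℕ) (_ : Module.Basis (Fin c) Ba (LocalizedModule.Away ga J.Cotangent)), True :=
    ⟨_, b₀.reindex (Fintype.equivFin _), trivial⟩
  have hsurj : ∀ j, ∃ (x : J) (u : Baˣ), mkC (J.toCotangent x) = u • b j := fun j => by
    obtain ⟨⟨y, s⟩, hy⟩ := IsLocalizedModule.surj (Submonoid.powers ga) mkC (b j)
    obtain ⟨x, rfl⟩ := J.toCotangent_surjective y
    obtain ⟨u, hu⟩ : IsUnit (algebraMap B Ba s) := IsLocalization.map_units _ s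
    exact ⟨x, u, by rw [Units.smul_def, hu, algebraMap_smul]; exact hy.symm⟩
  choose x u hxu using hsurj
  let b' := b.unitsSMul u
  have hb' : ∀ j, b' j = mkC (J.toCotangent (x j)) := fun j => by rw [Module.Basis.unitsSMul_apply, hxu]
  let τ₀ : J.Cotangent →ₗ[B] (Fin c → Ba) := (b'.equivFun.toLinearMap.restrictScalars B) ∘ₗ mkC
  have hτ₀ : ∀ j, τ₀ (J.toCotangent (x j)) = Pi.single j 1 := fun j => by
    show b'.equivFun (mkC _) = _
    rw [← hb']
    ext i
    rw [Module.Basis.equivFun_self]
    rw [Pi.single_apply]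
    by_cases hij : j = i
    · subst hij; simp
    · rw [if_neg hij, if_neg (fun h => hij h.symm)]
  -- in `R_g`, the `x j` generate `J` up to `J²`
  let L := Localization.Away g
  let N : Ideal L := Ideal.span (Set.range fun j => algebraMap R L (x j))
  let JL := J.map (algebraMap R L)
  have hle : JL ≤ N ⊔ JL • JL := by
    refine Ideal.map_le_iff_le_comap.2 fun y hy => ?_
    obtain ⟨r, hr⟩ := (Submodule.mem_span_range_iff_exists_fun Ba).1
      (show mkC (J.toCotangent ⟨y, hy⟩) ∈ Submodule.span Ba (Set.range b') by rw [b'.span_eq]; trivial)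
    obtain ⟨⟨_, k, rfl⟩, hk⟩ := IsLocalization.exist_integer_multiples_of_finite (Submonoid.powers ga) r
    choose q hq using hk
    choose q' hq' using fun j => Ideal.Quotient.mk_surjective (q j)
    have hdiff : mkC ((ga ^ k) • J.toCotangent ⟨y, hy⟩ - J.toCotangent (∑ j, q' j • x j)) = 0 := by
      rw [map_sub, map_smul, ← hr, map_sum, map_sum, Finset.smul_sum, sub_eq_zero]
      refine Finset.sum_congr rfl fun j _ => ?_
      rw [map_smul, ← algebraMap_smul B (q' j), Ideal.Quotient.algebraMap_eq, hq', map_smul, ← hb',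
        ← algebraMap_smul Ba (q j), hq j, smul_assoc]
    obtain ⟨⟨_, l, rfl⟩, hl⟩ := (IsLocalizedModule.eq_zero_iff (Submonoid.powers ga) mkC).1 hdiff
    simp only [Submonoid.smul_def, ga, ← map_pow] at hl
    rw [← Ideal.Quotient.algebraMap_eq, algebraMap_smul, algebraMap_smul, ← map_smul, ← map_sub, ← map_smul,
      Ideal.toCotangent_eq_zero] at hl
    have h2 := Ideal.mem_map_of_mem (algebraMap R L) hl
    rw [Ideal.map_pow, pow_two] at h2
    rw [Ideal.mem_comap, ← Ideal.unit_mul_mem_iff_mem _ (((isUnit_g (g := g)).pow l).mul ((isUnit_g (g := g)).pow k))]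
    simp only [Submodule.coe_smul, Submodule.coe_sub, Submodule.coe_sum, smul_eq_mul, map_mul, map_sub, map_sum,
      map_pow, mul_sub, ← mul_assoc] at h2
    rw [← sub_add_cancel (algebraMap R L g ^ l * algebraMap R L g ^ k * algebraMap R L y)
      (algebraMap R L g ^ l * ∑ j, algebraMap R L (q' j) * algebraMap R L (x j))]
    exact add_mem (le_sup_right (a := N) h2) (le_sup_left (b := JL • JL) (N.mul_mem_left _
      (Submodule.sum_mem _ fun j _ => N.mul_mem_left _ (Ideal.subset_span ⟨j, rfl⟩))))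
  obtain ⟨r, hr1, hr2⟩ := Submodule.exists_sub_one_mem_and_smul_le_of_fg_of_le_sup (N' := JL) (hfg.map _) le_rfl hle
  obtain ⟨⟨h, ⟨_, k, rfl⟩⟩, hh⟩ := IsLocalization.surj (Submonoid.powers g) r
  have hhP : h ∉ P := fun hhP => by
    have : algebraMap R L (h - g ^ k) ∈ JL := by
      rw [map_sub, ← hh, ← sub_one_mul]; exact JL.mul_mem_right _ hr1
    obtain ⟨m, hm⟩ := exists_pow_mul_mem (g := g) this
    rw [mul_sub] at hm
    exact hgP (Ideal.IsPrime.mem_of_pow_mem (n := m + k) inferInstance (by
      rw [pow_add]; exact (Submodule.sub_mem_iff_right P (P.mul_mem_left _ hhP)).1 (hJP hm)))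
  refine ⟨g * h, Ideal.IsPrime.mul_notMem inferInstance hgP hhP, c,
    fun j => algebraMap R (Localization.Away (g * h)) (x j), ?_⟩
  let L' := Localization.Away (g * h)
  obtain ⟨hgu, hhu⟩ : IsUnit (algebraMap R L' g) ∧ IsUnit (algebraMap R L' h) :=
    IsUnit.mul_iff.1 (by rw [← map_mul]; exact IsLocalization.Away.algebraMap_isUnit _)
  have hspan : Ideal.span (Set.range fun j => algebraMap R L' (x j)) = J.map (algebraMap R L') := by
    refine le_antisymm (Ideal.span_le.2 ?_) (Ideal.map_le_iff_le_comap.2 fun y hy => ?_)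
    · rintro _ ⟨j, rfl⟩; exact Ideal.mem_map_of_mem _ (x j).2
    have hy' : algebraMap R L h * algebraMap R L y ∈ N := by
      have hr3 : r * algebraMap R L y ∈ N :=
        hr2 (Submodule.smul_mem_pointwise_smul _ r _ (Ideal.mem_map_of_mem _ hy))
      rw [← hh, mul_right_comm]
      exact N.mul_mem_right _ hr3
    let ψ : L →+* L' := IsLocalization.Away.lift g hgu
    have h3 := Ideal.mem_map_of_mem ψ hy'
    rw [Ideal.map_span, ← Set.range_comp, map_mul, IsLocalization.Away.lift_eq, IsLocalization.Away.lift_eq] at h3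
    simp only [Function.comp_def, IsLocalization.Away.lift_eq, ψ] at h3
    rw [Ideal.mem_comap]
    exact (Ideal.unit_mul_mem_iff_mem _ hhu).1 h3
  let Ba' := Localization.Away (Ideal.Quotient.mk J (g * h))
  have hau : IsUnit (algebraMap B Ba' ga) := by
    have h1 : IsUnit (algebraMap B Ba' (Ideal.Quotient.mk J (g * h))) :=
      IsLocalization.Away.algebraMap_isUnit (Ideal.Quotient.mk J (g * h))
    have h2 : algebraMap B Ba' (Ideal.Quotient.mk J (g * h)) = algebraMap B Ba' ga * algebraMap B Ba' (Ideal.Quotient.mk J h) :=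
      (congrArg (algebraMap B Ba') (map_mul (Ideal.Quotient.mk J) g h)).trans (map_mul _ _ _)
    exact (IsUnit.mul_iff.1 (h2 ▸ h1)).1
  let χ : Ba →ₐ[B] Ba' := IsLocalization.liftAlgHom (M := Submonoid.powers ga) (f := Algebra.ofId B Ba')
    (by rintro ⟨_, m, rfl⟩; exact (map_pow (algebraMap B Ba') ga m).symm ▸ hau.pow m)
  refine ⟨isQuasiRegular_of_coord (g * h) x (χ.toLinearMap.compLeft (Fin c) ∘ₗ τ₀) (fun j => ?_) hS hspan, hspan⟩
  ext i
  by_cases hij : i = j
  · subst hij; simp [hτ₀]
  · simp [hτ₀, hij]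

end Groth.Agent.QReg16Lib
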