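import Groth.Agent.QReg16Lib.Basic

/-!
An ideal that is generated by a quasi-regular sequence after inverting an element `g`.
-/

set_option autoImplicit false
set_option linter.style.haveILetI false
universe u
open MvPolynomial Groth.Agent.SymGrLib

namespace Groth.Agent.QReg16Lib

variable {R : Type u} [CommRing R] {J : Ideal R} {g : R} {L : Type u} [CommRing L] [Algebra R L]
  [IsLocalization.Away g L] {c : ℕ} {f : Fin c → L}

theorem exists_pow_mul_mem {I : Ideal R} {a : R} (h : algebraMap R L a ∈ I.map (algebraMap R L)) :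
    ∃ m, g ^ m * a ∈ I := by
  obtain ⟨_, ⟨m, rfl⟩, hm⟩ := (IsLocalization.algebraMap_mem_map_algebraMap_iff (Submonoid.powers g) L I a).1 h
  exact ⟨m, hm⟩

theorem exists_lifts (hs : Ideal.span (Set.range f) = J.map (algebraMap R L)) :
    ∃ (e : ℕ) (x : Fin c → J), ∀ j, algebraMap R L (x j) = algebraMap R L g ^ e * f j := by
  classical
  have h : ∀ j, ∃ (k : ℕ) (a : J), algebraMap R L a = algebraMap R L g ^ k * f j := by
    intro j
    obtain ⟨⟨a, ⟨_, k, rfl⟩⟩, hk⟩ := (IsLocalization.mem_map_algebraMap_iff (Submonoid.powers g) L).1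
      (hs ▸ Ideal.subset_span ⟨j, rfl⟩ : f j ∈ J.map (algebraMap R L))
    exact ⟨k, a, by rw [← hk, map_pow, mul_comm]⟩
  choose k a ha using h
  refine ⟨Finset.univ.sup k, fun j => (g ^ (Finset.univ.sup k - k j)) • a j, fun j => ?_⟩
  rw [Submodule.coe_smul, smul_eq_mul, map_mul, ha, map_pow, ← mul_assoc, ← pow_add,
    Nat.sub_add_cancel (Finset.le_sup (Finset.mem_univ j))]

variable {e : ℕ} {x : Fin c → J}

theorem isUnit_g : IsUnit (algebraMap R L g) := IsLocalization.Away.algebraMap_isUnit g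

theorem exists_pow_mul_mem_span (hs : Ideal.span (Set.range f) = J.map (algebraMap R L))
    (hx : ∀ j, algebraMap R L (x j) = algebraMap R L g ^ e * f j) (y : J) :
    ∃ m, g ^ m * (y : R) ∈ Ideal.span (Set.range fun j => (x j : R)) := by
  refine exists_pow_mul_mem (L := L) ?_
  rw [Ideal.map_span, ← Set.range_comp]
  obtain ⟨r, hr⟩ := (Submodule.mem_span_range_iff_exists_fun L).1
    (show algebraMap R L y ∈ Ideal.span (Set.range f) by rw [hs]; exact Ideal.mem_map_of_mem _ y.2)
  rw [← hr]
  refine Submodule.sum_mem _ fun j _ => ?_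
  refine Ideal.mul_mem_left _ _ ?_
  rw [← Ideal.unit_mul_mem_iff_mem _ ((isUnit_g (g := g)).pow e), ← hx]
  exact Ideal.subset_span ⟨j, rfl⟩

theorem exists_pow_smul_mem_span (hs : Ideal.span (Set.range f) = J.map (algebraMap R L))
    (hx : ∀ j, algebraMap R L (x j) = algebraMap R L g ^ e * f j) (y : J.Cotangent) :
    ∃ m, g ^ m • y ∈ Submodule.span R (Set.range fun j => J.toCotangent (x j)) := by
  obtain ⟨y, rfl⟩ := J.toCotangent_surjective y
  obtain ⟨m, hm⟩ := exists_pow_mul_mem_span hs hx y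
  obtain ⟨r, hr⟩ := (Submodule.mem_span_range_iff_exists_fun R).1 hm
  refine ⟨m, ?_⟩
  rw [← map_smul, show g ^ m • y = ∑ j, r j • x j from Subtype.ext (by simpa using hr.symm), map_sum]
  exact Submodule.sum_mem _ fun j _ => by
    rw [map_smul]; exact Submodule.smul_mem _ _ (Submodule.subset_span ⟨j, rfl⟩)

/-- The kernel of `Symⁿ(J/J²) → Jⁿ/Jⁿ⁺¹` is killed by a power of `g`. -/
theorem exists_pow_smul_eq_zero (hs : Ideal.span (Set.range f) = J.map (algebraMap R L))
    (hq : CAlgX.IsQuasiRegular f) (ι : Type u) [Fintype ι]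
    (φ : SymmetricPower R ι J.Cotangent →ₗ[R] PP16.grJ R J (Fintype.card ι))
    (hφ : ∀ y : ι → J, φ (SymmetricPower.tprod R fun i => J.toCotangent (y i)) = PP16.zetaJ R J y)
    (s : SymmetricPower R ι J.Cotangent) (hs0 : φ s = 0) (hι : Nonempty ι) : ∃ m, g ^ m • s = 0 := by
  classical
  obtain ⟨e, x, hx⟩ := exists_lifts (g := g) hs
  let t : (ι → Fin c) → SymmetricPower R ι J.Cotangent := fun h => SymmetricPower.tprod R fun i => J.toCotangent (x (h i))
  have hgen : ∀ z : SymmetricPower R ι J.Cotangent, ∃ m, g ^ m • z ∈ Submodule.span R (Set.range t) := by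
    intro z
    have hz : z ∈ Submodule.span R (Set.range (SymmetricPower.tprod R (ι := ι) (M := J.Cotangent))) := by
      rw [SymmetricPower.span_tprod_eq_top]; trivial
    induction hz using Submodule.span_induction with
    | mem z hz =>
      obtain ⟨w, rfl⟩ := hz
      choose m hm using fun i => exists_pow_smul_mem_span hs hx (w i)
      choose r hr using fun i => (Submodule.mem_span_range_iff_exists_fun R).1 (hm i)
      refine ⟨∑ i, m i, ?_⟩
      rw [← Finset.prod_pow_eq_pow_sum, ← MultilinearMap.map_smul_univ, ← funext hr, MultilinearMap.map_sum]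
      exact Submodule.sum_mem _ fun h _ => by
        rw [MultilinearMap.map_smul_univ]; exact Submodule.smul_mem _ _ (Submodule.subset_span ⟨h, rfl⟩)
    | zero => exact ⟨0, by simp⟩
    | add a b _ _ ha hb =>
      obtain ⟨m, hm⟩ := ha
      obtain ⟨m', hm'⟩ := hb
      refine ⟨m + m', ?_⟩
      rw [smul_add, pow_add, mul_smul (g ^ m) (g ^ m') b]
      refine add_mem ?_ (Submodule.smul_mem _ _ hm')
      rw [mul_comm, mul_smul]
      exact Submodule.smul_mem _ _ hm
    | smul r a _ ha =>
      obtain ⟨m, hm⟩ := ha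
      exact ⟨m, by rw [smul_comm]; exact Submodule.smul_mem _ _ hm⟩
  obtain ⟨M, hM⟩ := hgen s
  obtain ⟨r, hr⟩ := (Submodule.mem_span_range_iff_exists_fun R).1 hM
  let dg : (ι → Fin c) → (Fin c →₀ ℕ) := fun h => ∑ i, Finsupp.single (h i) 1
  let P : MvPolynomial (Fin c) R := ∑ h, monomial (dg h) (r h)
  let fx : Fin c → R := fun j => (x j : R)
  have hP : P.IsHomogeneous (Fintype.card ι) :=
    IsHomogeneous.sum _ _ _ fun h _ => isHomogeneous_monomial _ (by simp [dg, map_sum, Finsupp.degree_single])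
  have hprod : ∀ {S : Type u} [CommRing S] (v : Fin c → S) (a : S) (h : ι → Fin c),
      eval v (monomial (dg h) a) = a * ∏ i, v (h i) := fun v a h => by
    rw [eval_monomial, ← Finsupp.prod_finsetSum_index (fun _ => pow_zero _) (fun _ _ _ => pow_add _ _ _)]
    simp
  let z : (ι → Fin c) → ↥(J ^ Fintype.card ι) := fun h => ⟨∏ i, fx (h i), by
    rw [← Finset.card_univ, ← Finset.prod_const]; exact Ideal.prod_mem_prod fun i _ => (x (h i)).2⟩
  have hsum : eval fx P ∈ J ^ (Fintype.card ι + 1) := by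
    have h1 : φ (∑ h, r h • t h) = Submodule.Quotient.mk (∑ h, r h • z h) := by
      rw [map_sum, ← Submodule.mkQ_apply, map_sum (Submodule.mkQ _)]
      exact Finset.sum_congr rfl fun h _ => by rw [map_smul, map_smul]; exact congrArg _ (hφ fun i => x (h i))
    rw [hr, map_smul, hs0, smul_zero, eq_comm, Submodule.Quotient.mk_eq_zero, Submodule.mem_comap] at h1
    rw [show eval fx P = ((∑ h, r h • z h : ↥(J ^ Fintype.card ι)) : R) by
      rw [map_sum, Submodule.coe_sum]; exact Finset.sum_congr rfl fun h _ => hprod _ _ h]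
    exact h1
  have hu : IsUnit ((algebraMap R L g ^ e) ^ Fintype.card ι) := ((isUnit_g (g := g)).pow e).pow _
  have hev : eval f (map (algebraMap R L) P) ∈ Ideal.span (Set.range f) ^ (Fintype.card ι + 1) := by
    rw [hs, ← Ideal.map_pow, ← Ideal.unit_mul_mem_iff_mem _ hu]
    convert Ideal.mem_map_of_mem (algebraMap R L) hsum using 1
    simp only [P, map_sum, map_monomial, hprod, map_mul, map_prod, Finset.mul_sum, fx, hx,
      Finset.prod_mul_distrib, Finset.prod_const, Finset.card_univ]
    exact Finset.sum_congr rfl fun h _ => by ring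
  have hcoeff : ∀ d, ∃ m, g ^ m * P.coeff d ∈ J := fun d => exists_pow_mul_mem (L := L) (by
    rw [← hs, ← coeff_map]; exact hq _ _ (hP.map _) hev d)
  choose m hm using hcoeff
  let T : (Fin c →₀ ℕ) → SymmetricPower R ι J.Cotangent := fun d => if h : ∃ h', dg h' = d then t h.choose else 0
  have hT : ∀ h, T (dg h) = t h := fun h => by
    have h' : ∃ h', dg h' = dg h := ⟨h, rfl⟩
    show dite _ _ _ = _
    rw [dif_pos h']
    obtain ⟨σ, hσ⟩ := exists_perm_of_sum_single_eq h'.choose_spec
    show SymmetricPower.tprod R (fun i => J.toCotangent (x (h'.choose i))) = _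
    rw [← show (fun i => h (σ i)) = h'.choose from funext hσ]
    exact SymmetricPower.tprod_equiv σ fun i => J.toCotangent (x (h i))
  let Ψ : MvPolynomial (Fin c) R →+ SymmetricPower R ι J.Cotangent :=
    AddMonoidHom.mk' (fun q => Finsupp.sum (AddMonoidAlgebra.coeff q) fun d a => a • T d) fun q q' => by
      show Finsupp.sum (AddMonoidAlgebra.coeff (q + q')) _ = _
      exact Finsupp.sum_add_index' (fun d => zero_smul _ _) (fun d a a' => add_smul _ _ _)
  have hΨ : ∀ d a, Ψ (monomial d a) = a • T d := fun d a => by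
    show Finsupp.sum (AddMonoidAlgebra.coeff (monomial d a)) (fun d a => a • T d) = _
    rw [sum_monomial_eq]; exact zero_smul _ _
  obtain ⟨N, hN⟩ : ∃ N, ∀ d ∈ P.support, m d ≤ N := ⟨_, fun d hd => Finset.le_sup (f := m) hd⟩
  refine ⟨N + M, ?_⟩
  rw [pow_add, mul_smul, ← hr, show (∑ h, r h • t h) = Ψ P by
    rw [map_sum]; exact Finset.sum_congr rfl fun h _ => by rw [hΨ, hT]]
  conv_lhs => rw [P.as_sum, map_sum, Finset.smul_sum]
  refine Finset.sum_eq_zero fun d hd => ?_
  rw [hΨ, smul_smul]
  refine smul_eq_zero _ (fun y => Ideal.Cotangent.smul_eq_zero_of_mem ?_ y) _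
  rw [← Nat.sub_add_cancel (hN d hd), pow_add, mul_assoc]
  exact J.mul_mem_left _ (hm d)

end Groth.Agent.QReg16Lib
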