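import Groth.Agent.QReg16Lib.Local

/-!
The conormal module of an ideal generated locally by quasi-regular sequences.
-/

set_option autoImplicit false
set_option linter.style.haveILetI false
universe u

namespace Groth.Agent.QReg16Lib

variable {R : Type u} [CommRing R] {J : Ideal R} (g : R) {L : Type u} [CommRing L] [Algebra R L]
  [IsLocalization.Away g L] {c : ℕ} {f : Fin c → L}

local notation "Ba" => Localization.Away (Ideal.Quotient.mk J g)

omit [IsLocalization.Away g L] in
theorem isUnit_algebraMap_mk :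
    IsUnit ((algebraMap (R ⧸ J) (Localization.Away (Ideal.Quotient.mk J g))).comp (Ideal.Quotient.mk J) g) :=
  IsLocalization.Away.algebraMap_isUnit (Ideal.Quotient.mk J g)

/-- `L = R_g → (R/J)_g`. -/
noncomputable def proj : L →+* Localization.Away (Ideal.Quotient.mk J g) :=
  IsLocalization.Away.lift g (isUnit_algebraMap_mk (J := J) g)

theorem proj_algebraMap (r : R) :
    proj (J := J) g (L := L) (algebraMap R L r) = algebraMap (R ⧸ J) _ (Ideal.Quotient.mk J r) :=
  IsLocalization.Away.lift_eq g _ r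

theorem proj_eq_zero_of_mem {z : L} (h : z ∈ J.map (algebraMap R L)) : proj (J := J) g (L := L) z = 0 := by
  have hle : J.map (algebraMap R L) ≤ RingHom.ker (proj (J := J) g (L := L)) := Ideal.map_le_iff_le_comap.2 fun a ha => by
    rw [Ideal.mem_comap, RingHom.mem_ker, proj_algebraMap, Ideal.Quotient.eq_zero_iff_mem.2 ha, map_zero]
  exact hle h

theorem mem_of_proj_eq_zero {z : L} (h : proj (J := J) g (L := L) z = 0) : z ∈ J.map (algebraMap R L) := by
  obtain ⟨⟨a, ⟨_, k, rfl⟩⟩, hk⟩ := IsLocalization.surj (Submonoid.powers g) z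
  rw [← Ideal.mul_unit_mem_iff_mem _ ((isUnit_g (g := g) (L := L)).pow k), ← map_pow, hk]
  have h0 := congrArg (proj (J := J) g (L := L)) hk
  rw [map_mul, h, zero_mul, proj_algebraMap] at h0
  obtain ⟨⟨_, m, rfl⟩, hm⟩ := (IsLocalization.map_eq_zero_iff (Submonoid.powers (Ideal.Quotient.mk J g)) _ _).1 h0.symm
  simp only [← map_pow, ← map_mul, Ideal.Quotient.eq_zero_iff_mem] at hm
  exact (IsLocalization.algebraMap_mem_map_algebraMap_iff (Submonoid.powers g) L J a).2 ⟨g ^ m, ⟨m, rfl⟩, hm⟩

theorem exists_coeff (hs : Ideal.span (Set.range f) = J.map (algebraMap R L)) (hq : CAlgX.IsQuasiRegular f) :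
    ∃ σ : J →ₗ[R] (Fin c → Localization.Away (Ideal.Quotient.mk J g)), ∀ (y : J) (r : Fin c → L),
      algebraMap R L y = ∑ j, r j * f j → σ y = fun j => proj g (r j) := by
  classical
  have hex : ∀ y : J, ∃ r : Fin c → L, ∑ j, r j * f j = algebraMap R L y := fun y =>
    (Submodule.mem_span_range_iff_exists_fun L).1 (show algebraMap R L y ∈ Ideal.span (Set.range f) by
      rw [hs]; exact Ideal.mem_map_of_mem _ y.2)
  have huniq : ∀ r r' : Fin c → L, ∑ j, r j * f j = ∑ j, r' j * f j →
      (fun j => proj (J := J) g (L := L) (r j)) = fun j => proj (J := J) g (L := L) (r' j) := fun r r' h => funext fun j => by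
    rw [← sub_eq_zero, ← map_sub]
    refine proj_eq_zero_of_mem g (hs ▸ mem_of_sum_mem_sq hq (fun j => r j - r' j) ?_ j)
    simp [sub_mul, Finset.sum_sub_distrib, h]
  choose r hr using hex
  refine ⟨{ toFun := fun y j => proj g (r y j), map_add' := fun a b => ?_, map_smul' := fun a b => ?_ },
    fun y s hys => huniq _ _ ((hr y).trans hys)⟩
  · refine (huniq (r (a + b)) (fun j => r a j + r b j) ?_).trans (funext fun j => map_add _ _ _)
    simp [add_mul, Finset.sum_add_distrib, hr, map_add]
  · refine (huniq (r (a • b)) (fun j => algebraMap R L a * r b j) ?_).trans (funext fun j => ?_)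
    · simp [mul_assoc, ← Finset.mul_sum, hr, map_mul]
    · rw [map_mul, proj_algebraMap, Pi.smul_apply, Algebra.smul_def, RingHom.id_apply,
        IsScalarTower.algebraMap_apply R (R ⧸ J) (Localization.Away (Ideal.Quotient.mk J g)), Ideal.Quotient.algebraMap_eq]

theorem exists_isLocalizedModule (hs : Ideal.span (Set.range f) = J.map (algebraMap R L)) (hq : CAlgX.IsQuasiRegular f) :
    ∃ σ : J.Cotangent →ₗ[R ⧸ J] (Fin c → Localization.Away (Ideal.Quotient.mk J g)),
      IsLocalizedModule (Submonoid.powers (Ideal.Quotient.mk J g)) σ := by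
  classical
  obtain ⟨σ, hσ⟩ := exists_coeff g hs hq
  have hsq : (J • ⊤ : Submodule R J) ≤ LinearMap.ker σ := by
    intro y hy
    have hy2 : (y : R) ∈ J ^ 2 := (Ideal.toCotangent_eq_zero _ y).1 ((Submodule.Quotient.mk_eq_zero _).2 hy)
    obtain ⟨r, hr⟩ := (Submodule.mem_span_range_iff_exists_fun L).1
      (show algebraMap R L y ∈ Ideal.span (Set.range f) by rw [hs]; exact Ideal.mem_map_of_mem _ y.2)
    rw [LinearMap.mem_ker, hσ y r hr.symm]
    refine funext fun j => proj_eq_zero_of_mem g (hs ▸ mem_of_sum_mem_sq hq r ?_ j)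
    have h := Ideal.mem_map_of_mem (algebraMap R L) hy2
    rw [Ideal.map_pow, ← hs, ← hr] at h
    exact h
  let σ' : J.Cotangent →ₗ[R] (Fin c → Localization.Away (Ideal.Quotient.mk J g)) := Submodule.liftQ _ σ hsq
  have hσ' : ∀ y, σ' (J.toCotangent y) = σ y := fun y => Submodule.liftQ_apply _ _ y
  let τ := σ'.extendScalarsOfSurjective (S := R ⧸ J) Ideal.Quotient.mk_surjective
  have hτ : ∀ y, τ (J.toCotangent y) = σ y := hσ'
  refine ⟨τ, ⟨fun a => ?_, fun v => ?_, ?_⟩⟩
  · rw [Module.End.isUnit_iff]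
    have hu : IsUnit (algebraMap (R ⧸ J) (Localization.Away (Ideal.Quotient.mk J g)) a) :=
      IsLocalization.map_units _ a
    obtain ⟨u, hu⟩ := hu
    refine ⟨fun v w h => funext fun j => ?_, fun v => ⟨fun j => ↑u⁻¹ * v j, funext fun j => ?_⟩⟩
    · have := congrFun h j
      simp only [Module.algebraMap_end_apply, Pi.smul_apply, Algebra.smul_def, ← hu] at this
      exact u.isUnit.mul_left_cancel this
    · simp only [Module.algebraMap_end_apply, Pi.smul_apply, Algebra.smul_def, ← hu]
      exact u.mul_inv_cancel_left (v j)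
  · obtain ⟨e, x, hx⟩ := exists_lifts (g := g) hs
    obtain ⟨⟨_, k, rfl⟩, hb⟩ := IsLocalization.exist_integer_multiples_of_finite (Submonoid.powers (Ideal.Quotient.mk J g)) v
    choose b hb using hb
    choose b' hb' using fun j => Ideal.Quotient.mk_surjective (b j)
    let y : J := ∑ j, b' j • x j
    refine ⟨(J.toCotangent y, ⟨Ideal.Quotient.mk J g ^ (e + k), e + k, rfl⟩), ?_⟩
    rw [hτ, hσ y (fun j => algebraMap R L (b' j) * algebraMap R L g ^ e) (by
      simp only [y, Submodule.coe_sum, Submodule.coe_smul, smul_eq_mul, map_sum, map_mul, hx]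
      exact Finset.sum_congr rfl fun j _ => by ring)]
    refine funext fun j => ?_
    rw [Pi.smul_apply, Submonoid.smul_def, map_mul, map_pow, proj_algebraMap, proj_algebraMap, hb', hb j]
    show (Ideal.Quotient.mk J g ^ (e + k)) • v j = (Ideal.Quotient.mk J g ^ k) • v j * _
    rw [Algebra.smul_def, Algebra.smul_def, pow_add, map_mul, map_pow, map_pow]
    ring
  · intro a b h
    obtain ⟨y, rfl⟩ := J.toCotangent_surjective a
    obtain ⟨y', rfl⟩ := J.toCotangent_surjective b
    rw [hτ, hτ, ← sub_eq_zero, ← map_sub] at h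
    obtain ⟨r, hr⟩ := (Submodule.mem_span_range_iff_exists_fun L).1
      (show algebraMap R L (y - y' : J) ∈ Ideal.span (Set.range f) by rw [hs]; exact Ideal.mem_map_of_mem _ (y - y').2)
    rw [hσ _ r hr.symm] at h
    have hmem : algebraMap R L (y - y' : J) ∈ (J ^ 2).map (algebraMap R L) := by
      rw [← hr, Ideal.map_pow, pow_two]
      exact Submodule.sum_mem _ fun j _ => Ideal.mul_mem_mul (mem_of_proj_eq_zero g (congrFun h j))
        (hs ▸ Ideal.subset_span ⟨j, rfl⟩)
    obtain ⟨m, hm⟩ := exists_pow_mul_mem (g := g) hmem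
    refine ⟨⟨Ideal.Quotient.mk J g ^ m, m, rfl⟩, ?_⟩
    rw [← sub_eq_zero, ← smul_sub, ← map_sub, Submonoid.smul_def]
    show (Ideal.Quotient.mk J g ^ m) • _ = (0 : J.Cotangent)
    rw [← map_pow, ← Ideal.Quotient.algebraMap_eq, algebraMap_smul, ← map_smul, Ideal.toCotangent_eq_zero]
    exact hm

end Groth.Agent.QReg16Lib
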